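import Mathlib.RingTheory.ZariskisMainTheorem
import Mathlib.RingTheory.NoetherNormalization
import Mathlib.RingTheory.Ideal.GoingDown
import Mathlib.RingTheory.IntegralClosure.GoingDown
import Mathlib.RingTheory.Valuation.LocalSubring
import Mathlib.RingTheory.Polynomial.IsIntegral
import Mathlib.RingTheory.Jacobson.Ring
import Mathlib.RingTheory.Flat.FaithfullyFlat.Basic
import Mathlib.RingTheory.TensorProduct.Finite
import Mathlib.RingTheory.Spectrum.Prime.Topology

/-!
# The Jacobson property descends along faithfully flat algebras of finite type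
-/

set_option autoImplicit false

universe u

open TensorProduct

namespace Groth.Agent.Jacobson

/-- Polynomial rings over a normal domain are normal. -/
theorem isIntegrallyClosed_mvPolynomial (V : Type u) [CommRing V] [IsDomain V] [IsIntegrallyClosed V] :
    ∀ n : ℕ, IsIntegrallyClosed (MvPolynomial (Fin n) V)
  | 0 => IsIntegrallyClosed.of_equiv (MvPolynomial.isEmptyRingEquiv V (Fin 0)).symm
  | n + 1 => by
    have := isIntegrallyClosed_mvPolynomial V n
    exact IsIntegrallyClosed.of_equiv (MvPolynomial.finSuccEquiv V n).toRingEquiv.symm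

theorem finite_comp_comp {A B C D : Type u} [CommRing A] [CommRing B] [CommRing C] [CommRing D] {σ : A →+* B}
    {g : B →+* C} {π : C →+* D} (hσ : Function.Surjective σ) (hg : g.Finite) (hπ : Function.Surjective π) :
    (π.comp (g.comp σ)).Finite :=
  (RingHom.Finite.of_surjective π hπ).comp (hg.comp (RingHom.Finite.of_surjective σ hσ))

/-- A finite type algebra over a valuation ring with a point over the closed point has a prime over the
generic point, below such a point, with algebraic residue field. -/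
theorem exists_algebraic_prime (V R : Type u) [CommRing V] [IsDomain V] [ValuationRing V]
    [CommRing R] [IsDomain R] [Algebra V R] [FaithfulSMul V R] [Algebra.FiniteType V R] [IsIntegrallyClosed V]
    (hne : (IsLocalRing.maximalIdeal V).map (algebraMap V R) ≠ ⊤) :
    ∃ (L : Type u) (_ : Field L) (_ : Algebra V L) (ρ : R →ₐ[V] L),
      Function.Injective (algebraMap V L) ∧ (∀ x, IsAlgebraic V (ρ x)) ∧
      ∃ c : Ideal R, c.IsPrime ∧ RingHom.ker ρ ≤ c ∧ (IsLocalRing.maximalIdeal V).map (algebraMap V R) ≤ c := by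
  let m := IsLocalRing.maximalIdeal V
  let J := m.map (algebraMap V R)
  let := Ideal.Quotient.field m
  have : Nontrivial (R ⧸ J) := Ideal.Quotient.nontrivial_iff.2 hne
  have hJ : m ≤ J.comap (algebraMap V R) := Ideal.le_comap_map
  let : Algebra (V ⧸ m) (R ⧸ J) := (Ideal.quotientMap J (algebraMap V R) hJ).toAlgebra
  have : IsScalarTower V (V ⧸ m) (R ⧸ J) := IsScalarTower.of_algebraMap_eq fun v => rfl
  have : Algebra.FiniteType (V ⧸ m) (R ⧸ J) := Algebra.FiniteType.of_restrictScalars_finiteType V (V ⧸ m) (R ⧸ J)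
  obtain ⟨r, g, hg, hgf⟩ := exists_finite_inj_algHom_of_fg (V ⧸ m) (R ⧸ J)
  choose y hy using fun i => Ideal.Quotient.mk_surjective (g (MvPolynomial.X i))
  let P := MvPolynomial (Fin r) V
  let φ : P →ₐ[V] R := MvPolynomial.aeval y
  let σ : P →+* MvPolynomial (Fin r) (V ⧸ m) := MvPolynomial.map (Ideal.Quotient.mk m)
  have hσ : Function.Surjective σ := MvPolynomial.map_surjective _ Ideal.Quotient.mk_surjective
  have hcomm : ∀ h, Ideal.Quotient.mk J (φ h) = g (σ h) := fun h => by
    refine RingHom.congr_fun (f := (Ideal.Quotient.mk J).comp φ.toRingHom) (g := g.toRingHom.comp σ)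
      (MvPolynomial.ringHom_ext (fun v => ?_) (fun i => ?_)) h
    · show Ideal.Quotient.mk J (φ (MvPolynomial.C v)) = g (σ (MvPolynomial.C v))
      rw [show φ (MvPolynomial.C v) = algebraMap V R v from φ.commutes v,
        show σ (MvPolynomial.C v) = algebraMap (V ⧸ m) _ (Ideal.Quotient.mk m v) from MvPolynomial.map_C _ v,
        g.commutes]
      rfl
    · show Ideal.Quotient.mk J (φ (MvPolynomial.X i)) = g (σ (MvPolynomial.X i))
      rw [show φ (MvPolynomial.X i) = y i from MvPolynomial.aeval_X _ _,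
        show σ (MvPolynomial.X i) = MvPolynomial.X i from MvPolynomial.map_X _ _, hy]
  have hφ : Function.Injective φ := by
    rw [injective_iff_map_eq_zero]
    intro h hh
    by_contra hne0
    obtain ⟨c, hc0, hcd, hdvd⟩ : ∃ c : V, c ≠ 0 ∧ c ∈ h.coeffs ∧ ∀ c' ∈ h.coeffs, c ∣ c' := by
      have hs : h.coeffs.Nonempty := by
        obtain ⟨d, hd⟩ := MvPolynomial.ne_zero_iff.1 hne0
        exact ⟨_, MvPolynomial.coeff_mem_coeffs d hd⟩
      have key : ∀ s : Finset V, s.Nonempty → ∃ c ∈ s, ∀ c' ∈ s, c ∣ c' := by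
        intro s hs
        induction hs using Finset.Nonempty.cons_induction with
        | singleton a => exact ⟨a, by simp, by simp⟩
        | cons a s ha hs ih =>
          obtain ⟨c, hc, hcd⟩ := ih
          rcases ValuationRing.dvd_total a c with h | h
          · exact ⟨a, by simp, fun c' hc' => by
              rcases Finset.mem_cons.1 hc' with rfl | hc'
              exacts [dvd_rfl, h.trans (hcd c' hc')]⟩
          · exact ⟨c, by simp [hc], fun c' hc' => by
              rcases Finset.mem_cons.1 hc' with rfl | hc'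
              exacts [h, hcd c' hc']⟩
      obtain ⟨c, hc, hcd⟩ := key _ hs
      exact ⟨c, fun h0 => MvPolynomial.zero_notMem_coeffs h (h0 ▸ hc), hc, hcd⟩
    obtain ⟨h', rfl⟩ : MvPolynomial.C c ∣ h := (MvPolynomial.C_dvd_iff_dvd_coeff c h).2 fun d => by
      by_cases hd : h.coeff d = 0
      · simp [hd]
      · exact hdvd _ (MvPolynomial.coeff_mem_coeffs d hd)
    have h0 : φ h' = 0 := by
      rw [map_mul] at hh
      refine (mul_eq_zero.1 hh).resolve_left ?_
      rw [show φ (MvPolynomial.C c) = algebraMap V R c from φ.commutes c]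
      exact fun h0 => hc0 (FaithfulSMul.algebraMap_injective V R (h0.trans (map_zero _).symm))
    have hz : σ h' = 0 := hg (by rw [← hcomm, h0, map_zero, map_zero])
    obtain ⟨d, -, hd⟩ := MvPolynomial.mem_coeffs_iff.1 hcd
    have : Ideal.Quotient.mk m (h'.coeff d) = 0 :=
      (MvPolynomial.coeff_map (Ideal.Quotient.mk m) h' d).symm.trans
        ((congrArg (MvPolynomial.coeff d) hz).trans (MvPolynomial.coeff_zero d))
    rw [MvPolynomial.coeff_C_mul] at hd
    have hu : h'.coeff d = 1 := (mul_right_eq_self₀.1 hd.symm).resolve_right hc0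
    rw [hu] at this
    exact m.ne_top_iff_one.1 (Ideal.IsPrime.ne_top inferInstance) (Ideal.Quotient.eq_zero_iff_mem.1 this)
  let : Algebra P R := φ.toRingHom.toAlgebra
  have : IsScalarTower V P R := IsScalarTower.of_algebraMap_eq fun v => (φ.commutes v).symm
  have : Algebra.FiniteType P R := Algebra.FiniteType.of_restrictScalars_finiteType V P R
  have := isIntegrallyClosed_mvPolynomial V r
  -- a point of the special fibre over the origin
  let pk : Ideal (MvPolynomial (Fin r) (V ⧸ m)) := RingHom.ker MvPolynomial.constantCoeff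
  have : pk.IsPrime := RingHom.ker_isPrime _
  have hgi : g.toRingHom.IsIntegral := RingHom.Finite.to_isIntegral hgf
  obtain ⟨ck, hck, hckp⟩ : ∃ ck : Ideal (R ⧸ J), ck.IsPrime ∧ ck.comap g.toRingHom = pk := by
    algebraize [g.toRingHom]
    obtain ⟨Q, -, hQ, hQe⟩ := Ideal.exists_ideal_over_prime_of_isIntegral (S := R ⧸ J) pk ⊥ (by
      intro h hh
      have : g h = 0 := hh
      rw [hg (this.trans (map_zero g).symm)]
      exact zero_mem _)
    exact ⟨Q, hQ, hQe⟩
  let c : Ideal R := ck.comap (Ideal.Quotient.mk J)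
  have hJc : J ≤ c := fun x hx => by
    show Ideal.Quotient.mk J x ∈ ck
    rw [Ideal.Quotient.eq_zero_iff_mem.2 hx]; exact zero_mem _
  have hc : ∀ h : P, h ∈ c.under P ↔ MvPolynomial.constantCoeff h ∈ m := fun h => by
    show Ideal.Quotient.mk J (φ h) ∈ ck ↔ _
    rw [hcomm, ← Ideal.Quotient.eq_zero_iff_mem (I := m), ← MvPolynomial.constantCoeff_map (Ideal.Quotient.mk m) h]
    show g.toRingHom (σ h) ∈ ck ↔ σ h ∈ pk
    rw [← hckp]; rfl
  -- quasi-finiteness at the point
  have hZ : Algebra.ZariskisMainProperty P c := by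
    let J' := (c.under P).map (algebraMap P R)
    have hJJ : J ≤ J' := Ideal.map_le_iff_le_comap.2 fun v hv => by
      show algebraMap V R v ∈ J'
      rw [IsScalarTower.algebraMap_apply V P R]
      exact Ideal.mem_map_of_mem _ ((hc _).2 (by rw [MvPolynomial.algebraMap_eq, MvPolynomial.constantCoeff_C]; exact hv))
    have hfin : (algebraMap P (R ⧸ J')).Finite := by
      have e : algebraMap P (R ⧸ J') = (Ideal.Quotient.factor hJJ).comp (g.toRingHom.comp σ) := by
        refine RingHom.ext fun h => ?_
        exact congrArg (Ideal.Quotient.factor hJJ) (hcomm h)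
      rw [e]
      exact finite_comp_comp (π := Ideal.Quotient.factor hJJ) (g := g.toRingHom) hσ hgf
        (Ideal.Quotient.factor_surjective hJJ)
    have : Module.Finite P (R ⧸ J') := RingHom.finite_algebraMap.1 hfin
    have : Algebra.WeaklyQuasiFiniteAt P c := by
      unfold Algebra.WeaklyQuasiFiniteAt
      infer_instance
    exact .of_finiteType_of_weaklyQuasiFiniteAt c
  obtain ⟨s, hsc, hs⟩ := hZ
  -- going down to the origin of the generic fibre
  let P' := integralClosure P R
  have : FaithfulSMul P R := (faithfulSMul_iff_algebraMap_injective P R).2 hφ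
  let q : Ideal P := RingHom.ker MvPolynomial.constantCoeff
  have : q.IsPrime := RingHom.ker_isPrime _
  let c' : Ideal P' := c.comap P'.val.toRingHom
  have hq : q ≤ c.under P := fun h hh => (hc h).2 (by rw [show MvPolynomial.constantCoeff h = 0 from hh]; exact zero_mem _)
  have : c'.LiesOver (c.under P) := ⟨rfl⟩
  obtain ⟨d₁, hd₁p, hd₁, hd₁o⟩ := c'.exists_ideal_le_liesOver_of_le (p := q) (q := c.under P) hq
  let L := FractionRing (P' ⧸ d₁)
  let f₁ : P' →+* L := (algebraMap (P' ⧸ d₁) L).comp (Ideal.Quotient.mk d₁)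
  have hs1 : IsUnit (f₁ s) := by
    refine isUnit_iff_ne_zero.2 fun h0 => hsc ?_
    have : s ∈ d₁ := Ideal.Quotient.eq_zero_iff_mem.1
      (IsFractionRing.injective (P' ⧸ d₁) L (h0.trans (map_zero _).symm))
    exact hd₁p this
  let e := RingEquiv.ofBijective _ hs
  let ρ₀ : R →+* L :=
    (IsLocalization.Away.lift s hs1).comp (e.symm.toRingHom.comp (algebraMap R (Localization.Away _)))
  have hρ₀ : ∀ z : P', ρ₀ z.1 = f₁ z := fun z => by
    have : e.symm (algebraMap R _ z.1) = algebraMap P' (Localization.Away s) z := by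
      rw [RingEquiv.symm_apply_eq]
      simp only [e, RingEquiv.ofBijective_apply, Localization.awayMap, IsLocalization.Away.map]
      erw [IsLocalization.map_eq]
      rfl
    show IsLocalization.Away.lift s hs1 (e.symm (algebraMap R _ z.1)) = _
    rw [this, IsLocalization.Away.lift_eq]
  let : Algebra V L := (ρ₀.comp (algebraMap V R)).toAlgebra
  let ρ : R →ₐ[V] L := ⟨ρ₀, fun _ => rfl⟩
  have hV : ∀ v : V, algebraMap V L v = f₁ (algebraMap P P' (MvPolynomial.C v)) := fun v => by
    rw [← hρ₀]
    exact congrArg ρ₀ (φ.commutes v).symm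
  have hpow : ∀ x : R, ∃ (n : ℕ) (z : P'), s.1 ^ n * x = z.1 := fun x => by
    obtain ⟨n, z, hz⟩ := (Localization.awayMap_surjective_iff).1 hs.2 x
    refine ⟨z, n, ?_⟩
    exact hz.symm
  refine ⟨L, inferInstance, inferInstance, ρ, ?_, ?_, c, inferInstance, ?_, hJc⟩
  · rw [injective_iff_map_eq_zero]
    intro v hv
    rw [hV] at hv
    have : algebraMap P P' (MvPolynomial.C v) ∈ d₁ := Ideal.Quotient.eq_zero_iff_mem.1
      (IsFractionRing.injective (P' ⧸ d₁) L (hv.trans (map_zero _).symm))
    have : MvPolynomial.C v ∈ q := by rw [hd₁o.over]; exact this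
    simpa [q] using this
  · intro x
    have key : ∀ z : P', IsIntegral V (f₁ z) := fun z => by
      obtain ⟨p, hp, hz⟩ := z.2
      refine ⟨p.map MvPolynomial.constantCoeff, hp.map _, ?_⟩
      have hc0 : ∀ h : P, f₁ (algebraMap P P' h) = algebraMap V L (MvPolynomial.constantCoeff h) := fun h => by
        rw [hV, ← sub_eq_zero, ← map_sub, ← map_sub]
        have : h - MvPolynomial.C (MvPolynomial.constantCoeff h) ∈ q := by
          show MvPolynomial.constantCoeff _ = (0 : V)
          rw [map_sub, MvPolynomial.constantCoeff_C, sub_self]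
        rw [hd₁o.over] at this
        exact (congrArg (algebraMap (P' ⧸ d₁) L) (Ideal.Quotient.eq_zero_iff_mem.2 this)).trans (map_zero _)
      rw [Polynomial.eval₂_map, show (algebraMap V L).comp MvPolynomial.constantCoeff =
        f₁.comp (algebraMap P P') from RingHom.ext fun h => (hc0 h).symm]
      have hz' : Polynomial.eval₂ (algebraMap P P') z p = 0 := Subtype.val_injective (by
        rw [show ((Polynomial.eval₂ (algebraMap P P') z p : P') : R) = P'.val (Polynomial.aeval z p) from rfl,
          ← Polynomial.aeval_algHom_apply]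
        exact hz)
      rw [← Polynomial.hom_eval₂, hz', map_zero]
    obtain ⟨k, z, hz⟩ := hpow x
    have hzx : ρ x = f₁ z * (f₁ s ^ k)⁻¹ := by
      rw [eq_mul_inv_iff_mul_eq₀ (pow_ne_zero _ hs1.ne_zero), ← hρ₀, ← hρ₀, ← map_pow, mul_comm]
      show ρ₀ (s.1 ^ k) * ρ₀ x = _
      rw [← map_mul, hz]
    rw [hzx]
    exact (key z).isAlgebraic.mul ((key s).isAlgebraic.pow k).inv
  · intro x hx
    obtain ⟨k, z, hz⟩ := hpow x
    have : z ∈ d₁ := by
      have h0 : f₁ z = 0 := by rw [← hρ₀, ← hz, map_mul, show ρ₀ x = 0 from hx, mul_zero]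
      exact Ideal.Quotient.eq_zero_iff_mem.1 (IsFractionRing.injective (P' ⧸ d₁) L (h0.trans (map_zero _).symm))
    have hzc : s.1 ^ k * x ∈ c := by rw [hz]; exact hd₁p this
    exact ((inferInstance : c.IsPrime).mem_or_mem hzc).resolve_left
      fun h => hsc ((inferInstance : c.IsPrime).mem_of_pow_mem _ h)

/-- The core case: over a domain with a nonunit lying in all nonzero primes, no faithfully flat algebra of
finite type is Jacobson. -/
theorem not_isJacobsonRing_of_gDomain (A B : Type u) [CommRing A] [IsDomain A] [CommRing B] [Algebra A B]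
    [Module.FaithfullyFlat A B] [Algebra.FiniteType A B] (x : A) (hx0 : x ≠ 0) (hxu : ¬ IsUnit x)
    (hx : ∀ p : Ideal A, p.IsPrime → x ∉ p → p = ⊥) : ¬ IsJacobsonRing B := by
  intro hB
  obtain ⟨a, ha, hxa⟩ := exists_max_ideal_of_mem_nonunits (hxu : x ∈ nonunits A)
  let K := FractionRing A
  obtain ⟨O, hAO, hO⟩ := Ideal.image_subset_nonunits_valuationSubring (A := (algebraMap A K).range)
    (a.map (algebraMap A K).rangeRestrict) (by
      intro htop
      have he : Function.Bijective (algebraMap A K).rangeRestrict :=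
        ⟨fun u v h => IsFractionRing.injective A K (congrArg Subtype.val h), RingHom.rangeRestrict_surjective _⟩
      have := congrArg (Ideal.comap (algebraMap A K).rangeRestrict) htop
      rw [Ideal.comap_map_of_bijective _ he, Ideal.comap_top] at this
      exact ha.ne_top this)
  let V := O
  let : Algebra A V := ((algebraMap A K).codRestrict O.toSubring fun r => hAO ⟨r, rfl⟩).toAlgebra
  have : IsScalarTower A V K := IsScalarTower.of_algebraMap_eq fun _ => rfl
  have hmax : algebraMap A V x ∈ IsLocalRing.maximalIdeal V := by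
    have : algebraMap A K x ∈ O.nonunits :=
      hO ⟨(algebraMap A K).rangeRestrict x, Ideal.mem_map_of_mem _ hxa, rfl⟩
    rw [← SetLike.mem_coe, ← ValuationSubring.image_maximalIdeal] at this
    obtain ⟨v, hv, hvx⟩ := this
    obtain rfl : v = algebraMap A V x := Subtype.ext hvx
    exact hv
  let m := IsLocalRing.maximalIdeal V
  -- the fibre over the closed point is not empty
  have : Nontrivial ((V ⧸ m) ⊗[A] B) := Module.FaithfullyFlat.rTensor_nontrivial A B (V ⧸ m)
  obtain ⟨⟨c₁, hc₁⟩⟩ : Nonempty (PrimeSpectrum ((V ⧸ m) ⊗[A] B)) :=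
    (PrimeSpectrum.nonempty_iff_nontrivial (R := (V ⧸ m) ⊗[A] B)).2 inferInstance
  let π : V ⊗[A] B →ₐ[V] (V ⧸ m) ⊗[A] B :=
    Algebra.TensorProduct.map (Ideal.Quotient.mkₐ V m) (AlgHom.id A B)
  let c₀ : Ideal (V ⊗[A] B) := c₁.comap π
  have hc₀ : m ≤ c₀.under V := fun v hv => by
    show π (algebraMap V _ v) ∈ c₁
    have : Ideal.Quotient.mk m v = 0 := Ideal.Quotient.eq_zero_iff_mem.2 hv
    rw [AlgHom.commutes, IsScalarTower.algebraMap_apply V (V ⧸ m), show algebraMap V (V ⧸ m) v = 0 from this,
      map_zero]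
    exact zero_mem _
  have : c₀.LiesOver (c₀.under V) := ⟨rfl⟩
  have : c₀.IsPrime := Ideal.IsPrime.comap π
  obtain ⟨d₀, hd₀c, hd₀, hd₀o⟩ := c₀.exists_ideal_le_liesOver_of_le (p := (⊥ : Ideal V)) (q := c₀.under V) bot_le
  let R := (V ⊗[A] B) ⧸ d₀
  have : FaithfulSMul V R := by
    rw [faithfulSMul_iff_algebraMap_injective, injective_iff_map_eq_zero]
    intro v hv
    have : v ∈ (⊥ : Ideal V) := by
      rw [hd₀o.over]
      exact (Ideal.Quotient.eq_zero_iff_mem (I := d₀)).1 hv
    exact this
  have hne : m.map (algebraMap V R) ≠ ⊤ := by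
    refine ne_top_of_le_ne_top (b := c₀.map (Ideal.Quotient.mk d₀)) ?_ (Ideal.map_le_iff_le_comap.2 fun v hv => ?_)
    · intro htop
      have := congrArg (Ideal.comap (Ideal.Quotient.mk d₀)) htop
      rw [Ideal.comap_map_of_surjective _ Ideal.Quotient.mk_surjective, Ideal.comap_top, ← RingHom.ker_eq_comap_bot,
        Ideal.mk_ker, sup_eq_left.2 hd₀c] at this
      exact (Ideal.IsPrime.comap π : c₀.IsPrime).ne_top this
    · exact Ideal.mem_map_of_mem _ (hc₀ hv)
  obtain ⟨L, _, _, ρ, hVL, halg, c, hc, hker, hmc⟩ := exists_algebraic_prime V R hne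
  let : Algebra A L := ((algebraMap V L).comp (algebraMap A V)).toAlgebra
  have : IsScalarTower A V L := IsScalarTower.of_algebraMap_eq fun _ => rfl
  let incB : B →ₐ[A] R := ((Ideal.Quotient.mkₐ V d₀).restrictScalars A).comp Algebra.TensorProduct.includeRight
  let ρB : B →ₐ[A] L := (ρ.restrictScalars A).comp incB
  let d := RingHom.ker ρB
  let cB := c.comap incB
  have hdc : d ≤ cB := fun b hb => hker (show ρ (incB b) = 0 from hb)
  have hxc : algebraMap A B x ∈ cB := by
    show incB (algebraMap A B x) ∈ c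
    rw [AlgHom.commutes, IsScalarTower.algebraMap_apply A V R]
    exact hmc (Ideal.mem_map_of_mem _ hmax)
  have hinjA : Function.Injective (algebraMap A L) := hVL.comp fun u v h =>
    IsFractionRing.injective A K (congrArg Subtype.val h)
  have hxd : algebraMap A B x ∉ d := fun h => hx0 (hinjA (by
    rw [map_zero, ← ρB.commutes]; exact h))
  have hdp : d.IsPrime := RingHom.ker_isPrime _
  -- a maximal ideal over `d` avoiding `x`
  obtain ⟨M, hMd, hM, hxM⟩ : ∃ M : Ideal B, d ≤ M ∧ M.IsMaximal ∧ algebraMap A B x ∉ M := by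
    by_contra! hcon
    exact hxd ((IsJacobsonRing.out hB hdp.isRadical).le (Ideal.mem_sInf.2 fun {M} ⟨h1, h2⟩ => hcon M h1 h2))
  have hMA : M.under A = ⊥ := hx _ inferInstance hxM
  have hMd' : M ≤ d := fun b hb => by
    by_contra hbd
    have hKL : IsAlgebraic A (ρB b) := by
      let : Algebra K L := (IsFractionRing.lift hinjA).toAlgebra
      have : IsScalarTower A K L := IsScalarTower.of_algebraMap_eq fun r => (IsFractionRing.lift_algebraMap hinjA r).symm
      rw [IsFractionRing.isAlgebraic_iff A K L]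
      have : IsScalarTower V K L := IsScalarTower.of_algebraMap_eq fun v => by
        obtain ⟨n, dd, hdd, hv⟩ := IsFractionRing.div_surjective A (v : K)
        show algebraMap V L v = IsFractionRing.lift hinjA (v : K)
        rw [← hv, map_div₀, IsFractionRing.lift_algebraMap, IsFractionRing.lift_algebraMap, eq_div_iff
          (fun h0 => nonZeroDivisors.ne_zero hdd (hinjA (h0.trans (map_zero _).symm))),
          IsScalarTower.algebraMap_apply A V L, IsScalarTower.algebraMap_apply A V L, ← map_mul]
        congr 1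
        apply Subtype.ext
        show (v : K) * algebraMap A K dd = algebraMap A K n
        rw [← hv, div_mul_cancel₀ _ (IsFractionRing.to_map_ne_zero_of_mem_nonZeroDivisors hdd)]
      exact (halg (incB b)).extendScalars (R := V) (S := K) Subtype.val_injective
    obtain ⟨p, hp0, hp⟩ := hKL.exists_nonzero_coeff_and_aeval_eq_zero (mem_nonZeroDivisors_of_ne_zero hbd)
    have h1 : Polynomial.aeval b p ∈ M := hMd (show ρB (Polynomial.aeval b p) = 0 by
      rw [← Polynomial.aeval_algHom_apply]; exact hp)
    rw [← Polynomial.X_mul_divX_add p, map_add, map_mul, Polynomial.aeval_X, Polynomial.aeval_C] at h1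
    have h2 : p.coeff 0 ∈ M.under A := (Submodule.add_mem_iff_right _ (M.mul_mem_right _ hb)).1 h1
    rw [hMA] at h2
    exact hp0 h2
  have := hM.eq_of_le (Ideal.IsPrime.comap incB : cB.IsPrime).ne_top (hMd'.trans hdc)
  exact hxM (this ▸ hxc)

/-- The Jacobson property descends along faithfully flat algebras of finite type. -/
theorem isJacobsonRing_of_faithfullyFlat (A B : Type u) [CommRing A] [CommRing B] [Algebra A B]
    [Module.FaithfullyFlat A B] [Algebra.FiniteType A B] [hB : IsJacobsonRing B] : IsJacobsonRing A := by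
  rw [isJacobsonRing_iff_prime_eq]
  intro P hP
  refine le_antisymm (fun x hx => ?_) Ideal.le_jacobson
  by_contra hxP
  obtain ⟨Q, hPQ, hQ, hQmax⟩ : ∃ Q : Ideal A, P ≤ Q ∧ Maximal (fun I : Ideal A => Disjoint (I : Set A) (Submonoid.powers x)) Q ∧ Q.IsPrime := by
    have hdisj : Disjoint (P : Set A) (Submonoid.powers x) := Set.disjoint_left.2 fun y hy ⟨n, hn⟩ =>
      hxP (hP.mem_of_pow_mem n (by rw [← hn] at hy; exact hy))
    obtain ⟨Q, hPQ, hQ⟩ := zorn_le_nonempty₀ {I : Ideal A | Disjoint (I : Set A) (Submonoid.powers x)}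
      (fun c hc hc' y hy => by
        refine ⟨sSup c, Set.disjoint_left.mpr fun z hz => ?_, fun _ => le_sSup⟩
        have : Nonempty c := ⟨⟨y, hy⟩⟩
        have ⟨p, hp⟩ := (Submodule.mem_iSup_of_directed _ hc'.directed).mp (sSup_eq_iSup' c ▸ hz)
        exact Set.disjoint_left.mp (hc p.2) hp) P hdisj
    exact ⟨Q, hPQ, hQ, Ideal.isPrime_of_maximally_disjoint _ _ hQ.1 fun _ => hQ.not_prop_of_gt⟩
  let A' := A ⧸ Q
  have hxQ : x ∉ Q := fun h => Set.disjoint_left.1 hQ.1 h (Submonoid.mem_powers x)
  refine not_isJacobsonRing_of_gDomain A' (A' ⊗[A] B) (Ideal.Quotient.mk Q x)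
    (fun h => hxQ (Ideal.Quotient.eq_zero_iff_mem.1 h)) (fun hu => ?_) (fun p hp hxp => ?_) ?_
  · obtain ⟨M, hM, hQM⟩ := Ideal.exists_le_maximal Q hQmax.ne_top
    have hxM : x ∈ M := Ideal.mem_sInf.1 hx ⟨hPQ.trans hQM, hM⟩
    obtain ⟨y, hy⟩ := hu.exists_right_inv
    obtain ⟨y, rfl⟩ := Ideal.Quotient.mk_surjective y
    rw [← map_mul, ← map_one (Ideal.Quotient.mk Q), Ideal.Quotient.eq] at hy
    exact hM.ne_top ((Ideal.eq_top_iff_one M).2 (by
      have := M.sub_mem (M.mul_mem_right y hxM) (hQM hy)
      simpa using this))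
  · have hle : Q ≤ p.comap (Ideal.Quotient.mk Q) := fun q hq => by
      show Ideal.Quotient.mk Q q ∈ p
      rw [Ideal.Quotient.eq_zero_iff_mem.2 hq]; exact zero_mem _
    have := hQ.eq_of_le (Set.disjoint_left.2 fun y hy ⟨n, hn⟩ => hxp (hp.mem_of_pow_mem n (by
      rw [← map_pow]; subst hn; exact hy))) hle
    rw [← Ideal.map_comap_of_surjective _ Ideal.Quotient.mk_surjective p, ← this, Ideal.map_quotient_self]
  · exact isJacobsonRing_of_surjective ⟨(Algebra.TensorProduct.includeRight : B →ₐ[A] A' ⊗[A] B).toRingHom,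
      Algebra.TensorProduct.includeRight_surjective B (R := A) (S := A') Ideal.Quotient.mk_surjective⟩

end Groth.Agent.Jacobson
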